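import Mathlib
import Cfsg.Agent.Lib.MultC.Cover
import Cfsg.Agent.Lib.LieModel.A7.P.Cert
import Cfsg.Agent.Lib.MultC.Pkg
import Cfsg.Agent.Lib.LieModel.A7.P.Main

/-! a projective permutation representation (generated) -/

set_option autoImplicit false
set_option maxRecDepth 100000
set_option Elab.async false

namespace CfsgLib.MultC.A7.Cov

open CfsgLib.Comput CfsgLib.MultC

open CfsgLib.LieModel.A7.P

noncomputable def a0_1 : Net :=
  Net.cons 1 0x1404
  (Net.cons 2 0x1320
  (Net.cons 4 0x400
  (Net.cons 8 112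
  (Net.cons 16 0
  (Net.cons 32 0
  (Net.cons 64 0
  (Net.cons 32 0
  (Net.cons 16 0
  (Net.cons 8 0
  (Net.cons 4 0x70c
  (Net.cons 2 0x1022
  (Net.cons 1 0x1541
  (Net.nil)))))))))))))

noncomputable def a0_0 : Net :=
  Net.cons 1 0x554105011154041150140551511540
  (Net.cons 2 0x221021012112131001311110333110
  (Net.cons 4 0xd0c0707090b050604060404000200
  (Net.cons 8 0xb800610050006800c8008000b1
  (Net.cons 16 0x880000d751000081c00000b000
  (Net.cons 32 0x300048000000001d000000
  (Net.cons 64 0x3fb6c81d000000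
  (Net.cons 32 0x3ff7c80000000052f2b000
  (Net.cons 16 0x3f0000894300007b770000fab1
  (Net.cons 8 0x30000a0025007d0090005c0041
  (Net.cons 4 0x8060e02090907020a09080d03060c
  (Net.cons 2 0x22202220212210200023022203312
  (Net.cons 1 0x455514010414505100041041410111
  (Net.nil)))))))))))))

noncomputable def r0 : Net :=
  Net.cons 120 0x13cd256876d8cab6b4c492183cdb56
  (Net.cons 15 0xa38000000000000000000000000000000000000000000000000000000000000
  (Net.cons 15 0x2f5e0000000000000000000000000000000000000000000000000000000000000000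
  (Net.cons 15 0x5484000000000000000000000000000000000000000000000000000000000000
  (Net.nil))))

noncomputable def y0 : Net := catN r0 (zipN 240 (a0_0.widen (ones 120 2)) (a0_1.widen (ones 15 3)))

noncomputable def a2_1 : Net :=
  Net.cons 1 261
  (Net.cons 2 0x1310
  (Net.cons 4 0
  (Net.cons 8 36
  (Net.cons 16 0
  (Net.cons 32 0
  (Net.cons 64 0
  (Net.cons 32 0
  (Net.cons 16 0
  (Net.cons 8 0
  (Net.cons 4 777
  (Net.cons 2 770
  (Net.cons 1 0x1444
  (Net.nil)))))))))))))

noncomputable def a2_0 : Net :=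
  Net.cons 1 0x404111440404401444455054045040
  (Net.cons 2 0x313213221110001111200033102010
  (Net.cons 4 0xc0206040c0007030000080a0a0400
  (Net.cons 8 0x70002100aa00b200a600310005
  (Net.cons 16 0x180000e2620000220500008000
  (Net.cons 32 0x42102500000000d8000000
  (Net.cons 64 0x427b27d8000000
  (Net.cons 32 0x5fff67000000009cff8000
  (Net.cons 16 0xbd0000204800004ffe00003a05
  (Net.cons 8 0xd00ba003d00580008008e007d
  (Net.cons 4 0x20302040e0e0c020e010a0700040e
  (Net.cons 2 0x220312300010310110223212021203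
  (Net.cons 1 0x100455540404114004044104555111
  (Net.nil)))))))))))))

noncomputable def r2 : Net :=
  Net.nil

noncomputable def y2 : Net := catN r2 (zipN 240 (a2_0.widen (ones 120 2)) (a2_1.widen (ones 15 3)))

noncomputable def a4_1 : Net :=
  Net.cons 1 325
  (Net.cons 2 0
  (Net.cons 4 0x600
  (Net.cons 8 91
  (Net.cons 16 0
  (Net.cons 32 0
  (Net.cons 64 0
  (Net.cons 32 0
  (Net.cons 16 0
  (Net.cons 8 0
  (Net.cons 4 771
  (Net.cons 2 0x1332
  (Net.cons 1 0x551
  (Net.nil)))))))))))))

noncomputable def a4_0 : Net :=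
  Net.cons 1 0x114000155450145154115551150540
  (Net.cons 2 0x221101331130312013232331002120
  (Net.cons 4 0xd0606050309050a000f0402000000
  (Net.cons 8 0x7d004100c200080099002e0004
  (Net.cons 16 0x230000117b0000002000000900
  (Net.cons 32 0x279c80000000081000000
  (Net.cons 64 0xe82eba1a07f11
  (Net.cons 32 0x278a180000000060c63149
  (Net.cons 16 0x60000319b00006a4000000623
  (Net.cons 8 0xee005200ca008a007100290051
  (Net.cons 4 0x70506060f0000030a0f04040e0e0e
  (Net.cons 2 0x13111310230021311101202203121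
  (Net.cons 1 0x45504050410050500005454054041
  (Net.nil)))))))))))))

noncomputable def r4 : Net :=
  Net.cons 120 0x8c1bd47c87e9cad4dc359b7aae33ad
  (Net.cons 15 0xb14000000000000000000000000000000000000000000000000000000000000
  (Net.cons 15 0x17bb0000000000000000000000000000000000000000000000000000000000000000
  (Net.cons 15 0x2462000000000000000000000000000000000000000000000000000000000000
  (Net.nil))))

noncomputable def y4 : Net := catN r4 (zipN 240 (a4_0.widen (ones 120 2)) (a4_1.widen (ones 15 3)))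

noncomputable def a6_1 : Net :=
  Net.cons 1 0x1440
  (Net.cons 2 0x1020
  (Net.cons 4 512
  (Net.cons 8 108
  (Net.cons 16 0
  (Net.cons 32 0
  (Net.cons 64 0
  (Net.cons 32 0
  (Net.cons 16 0
  (Net.cons 8 0
  (Net.cons 4 1
  (Net.cons 2 290
  (Net.cons 1 0x1450
  (Net.nil)))))))))))))

noncomputable def a6_0 : Net :=
  Net.cons 1 0x100110404541515415015414404404
  (Net.cons 2 0x202323013113210003310331323300
  (Net.cons 4 0x70d090f05090c0802000a03040200
  (Net.cons 8 0x9700df008600da004900510082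
  (Net.cons 16 0x210000b3ea0000d80400008e00
  (Net.cons 32 0x4885b0000000050000000
  (Net.cons 64 0x19c0ddd952272
  (Net.cons 32 0x2027090000000011f2191d
  (Net.cons 16 0x970000d6850000075a00002495
  (Net.cons 8 0x2d00e000cc00f4003f0078000a
  (Net.cons 4 0x2010b0b06060c0b010d09090a0907
  (Net.cons 2 0x111200133333031023013312322010
  (Net.cons 1 0x144550011514405455004540114050
  (Net.nil)))))))))))))

noncomputable def r6 : Net :=
  Net.cons 120 0x4850b1f0c30eddd6c1f76ae2d6d410
  (Net.cons 15 0xd84000000000000000000000000000000000000000000000000000000000000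
  (Net.cons 15 0x26de8000000000000000000000000000000000000000000000000000000000000000
  (Net.cons 15 0x4039000000000000000000000000000000000000000000000000000000000000
  (Net.nil))))

noncomputable def y6 : Net := catN r6 (zipN 240 (a6_0.widen (ones 120 2)) (a6_1.widen (ones 15 3)))

noncomputable def a8_1 : Net :=
  Net.cons 1 0
  (Net.cons 2 288
  (Net.cons 4 264
  (Net.cons 8 43
  (Net.cons 16 0
  (Net.cons 32 0
  (Net.cons 64 0
  (Net.cons 32 0
  (Net.cons 16 0
  (Net.cons 8 0
  (Net.cons 4 0x502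
  (Net.cons 2 770
  (Net.cons 1 0x555
  (Net.nil)))))))))))))

noncomputable def a8_0 : Net :=
  Net.cons 1 0x441415110410115450000045040550
  (Net.cons 2 0x223031112333233100210232100000
  (Net.cons 4 0xa0e0603090c08060d000409020e00
  (Net.cons 8 0x420077002000270074002c0081
  (Net.cons 16 0xf90000d4120000c86800008800
  (Net.cons 32 0x2e29c30000000040000000
  (Net.cons 64 0x2da879c51281ae
  (Net.cons 32 0x90f5ba0000000031c29f81
  (Net.cons 16 0x190000476f000022dd000060ef
  (Net.cons 8 0x28003a00ff006d004300300058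
  (Net.cons 4 0x60a070c0f0d0a0f03030a0e09000c
  (Net.cons 2 0x333101002133310202001003233323
  (Net.cons 1 0x450500505040155414051414051115
  (Net.nil)))))))))))))

noncomputable def r8 : Net :=
  Net.cons 120 0x6c51fb5831c1e53c068e381475b7a6
  (Net.cons 15 0xb14000000000000000000000000000000000000000000000000000000000000
  (Net.cons 15 0x17bb0000000000000000000000000000000000000000000000000000000000000000
  (Net.cons 15 0x2462000000000000000000000000000000000000000000000000000000000000
  (Net.nil))))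

noncomputable def y8 : Net := catN r8 (zipN 240 (a8_0.widen (ones 120 2)) (a8_1.widen (ones 15 3)))

noncomputable def a10_1 : Net :=
  Net.cons 1 0x514
  (Net.cons 2 0x1010
  (Net.cons 4 0
  (Net.cons 8 93
  (Net.cons 16 0
  (Net.cons 32 0
  (Net.cons 64 0
  (Net.cons 32 0
  (Net.cons 16 0
  (Net.cons 8 0
  (Net.cons 4 0x604
  (Net.cons 2 0x1010
  (Net.cons 1 0x514
  (Net.nil)))))))))))))

noncomputable def a10_0 : Net :=
  Net.cons 1 0x55055004054044010440411400044
  (Net.cons 2 0x320121211132233323332110311330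
  (Net.cons 4 0x30d0603020e0e0401000a09030f00
  (Net.cons 8 0x4c0046004d00de003900830080
  (Net.cons 16 0x2a0000dca300007c0f00004400
  (Net.cons 32 0x652ac0000000039000000
  (Net.cons 64 0xa702d3bdd9d96e
  (Net.cons 32 0x22c4d000000001c66c23e
  (Net.cons 16 0xf000003ae10000bfd50000a224
  (Net.cons 8 0x3200ea00f2007b009c00c30001
  (Net.cons 4 0x204080b0308080d07070a0602000f
  (Net.cons 2 0x23121211102200020002113011003
  (Net.cons 1 0x500500551501511545115144155511
  (Net.nil)))))))))))))

noncomputable def r10 : Net :=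
  Net.cons 120 0xdaa5b3dbfdfbca2753bb1184430200
  (Net.nil)

noncomputable def y10 : Net := catN r10 (zipN 240 (a10_0.widen (ones 120 2)) (a10_1.widen (ones 15 3)))

noncomputable def a11_1 : Net :=
  Net.cons 1 261
  (Net.cons 2 0x1310
  (Net.cons 4 0
  (Net.cons 8 36
  (Net.cons 16 0
  (Net.cons 32 0
  (Net.cons 64 0
  (Net.cons 32 0
  (Net.cons 16 0
  (Net.cons 8 0
  (Net.cons 4 777
  (Net.cons 2 770
  (Net.cons 1 0x1444
  (Net.nil)))))))))))))

noncomputable def a11_0 : Net :=
  Net.cons 1 0x404111440404401444455054045040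
  (Net.cons 2 0x313213221110001111200033102010
  (Net.cons 4 0xc0206040c0007030000080a0a0400
  (Net.cons 8 0x70002100aa00b200a600310005
  (Net.cons 16 0x180000e2620000220500008000
  (Net.cons 32 0x42102500000000d8000000
  (Net.cons 64 0x427b27d8000000
  (Net.cons 32 0x5fff67000000009cff8000
  (Net.cons 16 0xbd0000204800004ffe00003a05
  (Net.cons 8 0xd00ba003d00580008008e007d
  (Net.cons 4 0x20302040e0e0c020e010a0700040e
  (Net.cons 2 0x220312300010310110223212021203
  (Net.cons 1 0x100455540404114004044104555111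
  (Net.nil)))))))))))))

noncomputable def r11 : Net :=
  Net.nil

noncomputable def y11 : Net := catN r11 (zipN 240 (a11_0.widen (ones 120 2)) (a11_1.widen (ones 15 3)))

noncomputable def a13_1 : Net :=
  Net.cons 1 0x444
  (Net.cons 2 770
  (Net.cons 4 512
  (Net.cons 8 36
  (Net.cons 16 0
  (Net.cons 32 0
  (Net.cons 64 0
  (Net.cons 32 0
  (Net.cons 16 0
  (Net.cons 8 0
  (Net.cons 4 265
  (Net.cons 2 0x1310
  (Net.cons 1 0x505
  (Net.nil)))))))))))))

noncomputable def a13_0 : Net :=
  Net.cons 1 0x10100015141545101514451001044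
  (Net.cons 2 0x220010023212012202232202320030
  (Net.cons 4 0x60e060000010504080d000d020300
  (Net.cons 8 0xa90012009a00a9000400990010
  (Net.cons 16 0x28000092840000fe730000e000
  (Net.cons 32 0x78fe0000000081000000
  (Net.cons 64 0x78fe83030000
  (Net.cons 32 0x2887f900000000e7738100
  (Net.cons 16 0x500000d6c70000f08c00009984
  (Net.cons 8 0x2100c800010062007600400086
  (Net.cons 4 0x10600090102080f07060708000007
  (Net.cons 2 0x11310321110330101332000032313
  (Net.cons 1 0x141154045151554110144541410505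
  (Net.nil)))))))))))))

noncomputable def r13 : Net :=
  Net.nil

noncomputable def y13 : Net := catN r13 (zipN 240 (a13_0.widen (ones 120 2)) (a13_1.widen (ones 15 3)))

noncomputable def c0 : Net := Net.cons 120 (Nat.shiftLeft (Nat.pred (Nat.shiftLeft 1 120)) 0) (Net.nil)

noncomputable def c1 : Net := Net.cons 15 (Nat.shiftLeft (Nat.pred (Nat.shiftLeft 1 15)) 255) (Net.cons 15 (Nat.shiftLeft (Nat.pred (Nat.shiftLeft 1 15)) 240) (Net.nil))

noncomputable def Y : List Net := [y0, y0.rev, y2, y2.rev, y4, y4.rev, y6, y6.rev, y8, y8.rev, y10, y11, y11.rev, y13, y13.rev, c0, c1]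

def wit : List Wit := [([0x802, 14, 0x107, 15], [0x802, 0x107, 14, 15], 0x1111), ([6, 15, 5, 14, 6, 15, 5, 14], [6, 5, 15, 14, 6, 5, 15, 14], 0x1011)]

theorem Y_ok : allL (Net.ok 285) Y = true := by decide +kernel
theorem cen_0 : allRg (cenChk (stepT 285 9 Y) (idTab 285 9) [15, 16]) 0 17 = true := by decide +kernel
theorem e_l4_0 : eqAllH (stepT 285 9 Y) (idTab 285 9) (maskOf [15, 16]) L4.eqns [0, 0, 0] = true := by decide +kernel
theorem e_x4_0 : eqAllH (stepT 285 9 Y) (idTab 285 9) (maskOf [15, 16]) X4.eqns [0] = true := by decide +kernel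
theorem e_l3_0 : eqAllH (stepT 285 9 Y) (idTab 285 9) (maskOf [15, 16]) L3.eqns [0, 16, 0, 16] = true := by decide +kernel
theorem e_x3_0 : eqAllH (stepT 285 9 Y) (idTab 285 9) (maskOf [15, 16]) X3.eqns [0, 0] = true := by decide +kernel
theorem e_l2_0 : eqAllH (stepT 285 9 Y) (idTab 285 9) (maskOf [15, 16]) L2.eqns [17, 0x1111, 0, 0, 0] = true := by decide +kernel
theorem e_x2_0 : eqAllH (stepT 285 9 Y) (idTab 285 9) (maskOf [15, 16]) X2.eqns [0, 0, 0] = true := by decide +kernel
theorem e_l1_0 : eqAllH (stepT 285 9 Y) (idTab 285 9) (maskOf [15, 16]) L1.eqns [16, 0, 0x101111, 0x1111, 16, 0, 0x1111] = true := by decide +kernel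
theorem e_x1_0 : eqAllH (stepT 285 9 Y) (idTab 285 9) (maskOf [15, 16]) X1.eqns [0, 0, 0] = true := by decide +kernel
theorem e_l0_0 : eqAllH (stepT 285 9 Y) (idTab 285 9) (maskOf [15, 16]) L0.eqns [0x101111, 0x1111, 16, 0x101111, 16, 0, 17] = true := by decide +kernel
theorem e_x0_0 : eqAllH (stepT 285 9 Y) (idTab 285 9) (maskOf [15, 16]) X0.eqns [0] = true := by decide +kernel
theorem e_xd_0 : eqAllH (stepT 285 9 Y) (idTab 285 9) (maskOf [15, 16]) XD.eqns [0, 0, 0x101111, 0, 0x1011, 0, 0x101111, 0, 0, 16, 0, 16, 0] = true := by decide +kernel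
theorem e_mx_0 : eqAllH (stepT 285 9 Y) (idTab 285 9) (maskOf [15, 16]) (L0.maxEqns MX) [16] = true := by decide +kernel
theorem e_nc_0 : eqAllH (stepT 285 9 Y) (idTab 285 9) (maskOf [15, 16]) NC.eqns [0, 0x1011, 0x1111] = true := by decide +kernel
theorem wit_ok : witOK 0x7fff (stepT 7 3 W) (idTab 7 3) (stepT 285 9 Y) (idTab 285 9) wit = true := by decide +kernel
theorem lb_ok : Nat.ble 6 (lbVal (stepW (stepN Y) (wit.map fun w => w.2.2)) 285 [(0, 2, [2]), (240, 3, [1])] []) = true := by
  decide +kernel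

theorem wmY : WM (permG 285 Y) (stepT 285 9 Y) (idTab 285 9) := WM.perm Y_ok (by norm_num)

theorem cen : Cen (permG 285 Y) (maskOf [15, 16]) :=
  cen_perm (K := 9) (T := 17) (by norm_num) Y_ok rfl (allRg_zero cen_0)

theorem low : Low (cl (permG 7 W) top) 6 := by
  have hm := exists_letters W_ok (inA_top E)
  let g : ℕ → cl (permG 7 W) top := fun m => ⟨_, hm m⟩
  have PM : PModel (cl (permG 7 W) top) 7 (finPt 7) := (pModel_perm 7 (by norm_num)).subgroup _
  have hg : ∀ m, Acts 7 (finPt 7) (nth Net.nil W m) (g m) := acts_permG W_ok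
  have E1 : Eqs g := eqs_of_WM (PM.wm hg (by norm_num))
  have E2 : Eqs (fun m => (g m, cen.quo m)) :=
    { l4 := E1.l4.prod (cen.allHold wmY e_l4_0)
      x4 := E1.x4.prod (cen.allHold wmY e_x4_0)
      l3 := E1.l3.prod (cen.allHold wmY e_l3_0)
      x3 := E1.x3.prod (cen.allHold wmY e_x3_0)
      l2 := E1.l2.prod (cen.allHold wmY e_l2_0)
      x2 := E1.x2.prod (cen.allHold wmY e_x2_0)
      l1 := E1.l1.prod (cen.allHold wmY e_l1_0)
      x1 := E1.x1.prod (cen.allHold wmY e_x1_0)
      l0 := E1.l0.prod (cen.allHold wmY e_l0_0)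
      x0 := E1.x0.prod (cen.allHold wmY e_x0_0)
      xd := E1.xd.prod (cen.allHold wmY e_xd_0)
      mx := E1.mx.prod (cen.allHold wmY e_mx_0)
      nc := E1.nc.prod (cen.allHold wmY e_nc_0) }
  let _ := fstAction (cl (permG 7 W) top) (cenA (permG 285 Y) (maskOf [15, 16]) ⧸ Subgroup.center _) (Fin 7)
  obtain ⟨ρ, hρ⟩ := exists_hom_of_card (cl_lift hm)
    ((card (sm_prod _ (PM.sm hg)) E2).trans card_perm.symm)
  exact low_of_perm PM hg (by norm_num) (by norm_num) (by norm_num) Y_ok cen ρ
    (fun m h => hρ _ (inA_top E2 m h)) wit_ok lb_ok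

end CfsgLib.MultC.A7.Cov
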