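import Mathlib
import Cfsg.Agent.Lib.MultC.A7.Base

/-! multiplier certificate for the prime 2 (generated) -/

set_option autoImplicit false
set_option maxRecDepth 100000
set_option Elab.async false

namespace CfsgLib.MultC.A7.P2

open CfsgLib.Comput CfsgLib.MultC

noncomputable def x0 : Net :=
  Net.cons 1 4
  (Net.cons 4 4
  (Net.cons 1 20
  (Net.nil)))

noncomputable def x1 : Net :=
  Net.cons 1 20
  (Net.cons 2 18
  (Net.cons 1 20
  (Net.nil)))

noncomputable def x2 : Net :=
  Net.cons 1 16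
  (Net.cons 2 2
  (Net.cons 4 2
  (Net.cons 2 18
  (Net.cons 1 16
  (Net.nil)))))

noncomputable def x3 : Net :=
  Net.cons 2 16
  (Net.cons 1 16
  (Net.nil))

noncomputable def x4 : Net :=
  Net.cons 1 16
  (Net.cons 4 2
  (Net.cons 1 20
  (Net.nil)))

noncomputable def X : List Net := [x0, x1, x2, x3, x4]

def D : Dat := ⟨1, 3, 1,
  0x4830,
  4, 0x8a1,
  0x50d,
  0x1100, 4⟩

def R0 : List (ℕ × ℕ × ℕ × List ℕ) := [(4, 2, 1, [66]),
  (2, 1, 0, [18, 67, 83]),
  (2, 0, 0, [18, 49, 81])]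
def R1 : List (ℕ × List ℕ × List ℕ × List ℕ) := [(0, [1, 1], [], [1, 83, 114]),
  (0, [0, 0], [], [49, 81, 98]),
  (1, [2, 2], [], [35, 81, 130])]

noncomputable def A : LA := ⟨12, [[17, 113], [17, 129, 146], [17]],
  [[81, 98]], [2],
  Dat.sps R0 ++ (Dat.sps R1),
  [0x133003,
  0,
  0x1103003,
  0x300001,
  0x103101,
  0x103003],
  [33]⟩

def lv : LB := [(3, 1, [3, 1]), (1, 1, [2])]

theorem r0 : D.consAll 12 R0 = true := by decide +kernel
theorem r1 : D.fusAll 8 R1 = true := by decide +kernel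
theorem xw : wordsOK 7 3 U X [[0xf11], [0x80506090e11], [14], [17], [0x7060a0d11]] = true := by decide +kernel
theorem c1_0 : allRg (D.rowChk (stepT 7 3 X) (idTab 7 3)) 0 3 = true := by decide +kernel
theorem c2_0 : allRg (D.fusChk (stepT 7 3 X) (idTab 7 3)) 0 4 = true := by decide +kernel
theorem c3 : lbOK 7 X 3 (2 ^ 3) lv = true := by decide +kernel
theorem c4 : D.basicOK A = true := by decide +kernel
theorem c5_0 : allRg (D.rowOK A) 0 3 = true := by decide +kernel

theorem pb {G : Type*} {Ω : Type*} [Group G] [MulAction G Ω] {pt : ℕ → Ω} (M : PModel G 7 pt)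
    (h : AllReal G 7 pt V0) (hG : Nat.card G = 2520) : PBound G 2 [2] :=
  M.pBound (W := X) (k := 3) (D := D) (A := A) ((realU h).words (by norm_num) xw) (by norm_num) (by norm_num) rfl 1 rfl
    (by decide) rfl (by decide) (allRg_zero c1_0) (allRg_zero c2_0) c3 hG
    (by decide +kernel) ((D.allGood_cons 12 R0 (by norm_num) r0).append (D.allGood_fus 8 R1 (by norm_num) r1)) c4 (allRg_zero c5_0)

end CfsgLib.MultC.A7.P2
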